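import Cfsg.Agent.Lib.Amalgam.PMinFFWeight
import Cfsg.Agent.Lib.Amalgam.PMinFFTv
import Cfsg.Agent.Lib.Amalgam.PMinFFPerm

/-!
The local C(G,T) theory, module level: the images of the minimal offenders coming from elementary
abelian subgroups of largest order, with the Sylow lifting property.
-/

set_option autoImplicit false
set_option linter.unusedSectionVars false

namespace CfsgLib.CGT

open Cfsg Subgroup CfsgLib.Amalgam CfsgLib.Amalgam.PFF

variable {H : Type*} [Group H] [Finite H] {p : ℕ} [Fact p.Prime]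

/-- The setting: `P` acts faithfully on `V`, `T` is a Sylow subgroup, `Sg` a set of offenders in `T`
closed under lifting. -/
structure Ctx (p : ℕ) (V P T : Subgroup H) (Sg : Set (Subgroup H)) : Prop where
  hV : IsElementaryAbelian p V
  hPV : P ≤ normalizer (V : Set H)
  faith : P ⊓ centralizer (V : Set H) = ⊥
  hTP : T ≤ P
  hT : IsPGroup p T
  syl : ∀ Q : Subgroup H, Q ≤ P → IsPGroup p Q → ∃ g ∈ P, cjSub g Q ≤ T
  core1 : ∀ K : Subgroup H, K ≤ P → P ≤ normalizer (K : Set H) → IsPGroup p K → K = ⊥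
  sigT : ∀ A ∈ Sg, A ≤ T
  sigMin : ∀ A ∈ Sg, MinW p V P (wt V A) A
  sigWt : ∀ A ∈ Sg, Nat.card V ≤ wt V A
  sigConj : ∀ t ∈ T, ∀ A ∈ Sg, cjSub t A ∈ Sg
  lift : ∀ N : Subgroup H, N ≤ P → T ≤ normalizer (N : Set H) → ∀ A ∈ Sg, ∀ h ∈ P,
    cjSub h A ≤ N → ∃ k ∈ N, cjSub (k * h) A ∈ Sg

/-- The subgroup generated by the members. -/
def J0 (Sg : Set (Subgroup H)) : Subgroup H := sSup Sg

/-- Elements of `P` normalizing `J0`. -/
def YY (P : Subgroup H) (Sg : Set (Subgroup H)) : Subgroup H :=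
  P ⊓ normalizer (J0 Sg : Set H)

namespace Ctx

variable {V P T : Subgroup H} {Sg : Set (Subgroup H)} (c : Ctx p V P T Sg)

include c

theorem commV {v w : H} (hv : v ∈ V) (hw : w ∈ V) : v * w = w * v :=
  congrArg Subtype.val (c.hV.1.1.1 ⟨v, hv⟩ ⟨w, hw⟩)

theorem conjV {g v : H} (hg : g ∈ P) (hv : v ∈ V) : g * v * g⁻¹ ∈ V :=
  (mem_normalizer_iff.1 (c.hPV hg) v).1 hv

theorem sigP {A : Subgroup H} (hA : A ∈ Sg) : A ≤ P := (c.sigT A hA).trans c.hTP

/-- An element of `P` trivial on `V` is trivial. -/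
theorem eq_one {g : H} (hg : g ∈ P) (h : ∀ v ∈ V, g * v * g⁻¹ = v) : g = 1 :=
  mem_bot.1 (c.faith ▸ (⟨hg, mem_centralizer_iff.2 fun v hv =>
    (mul_inv_eq_iff_eq_mul.1 (h v hv)).symm⟩ : g ∈ P ⊓ centralizer (V : Set H)))

/-- Elements of `P` with the same action on `V` are equal. -/
theorem ext {g g' : H} (hg : g ∈ P) (hg' : g' ∈ P) (h : ∀ v ∈ V, g * v * g⁻¹ = g' * v * g'⁻¹) :
    g = g' := by
  refine (inv_mul_eq_one.1 (c.eq_one (P.mul_mem (P.inv_mem hg') hg) fun v hv => ?_)).symm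
  calc g'⁻¹ * g * v * (g'⁻¹ * g)⁻¹ = g'⁻¹ * (g * v * g⁻¹) * g' := by group
    _ = v := by rw [h v hv]; group

theorem J0_le_T : J0 Sg ≤ T := sSup_le fun A hA => c.sigT A hA

theorem J0_le_P : J0 Sg ≤ P := c.J0_le_T.trans c.hTP

theorem le_J0 {A : Subgroup H} (hA : A ∈ Sg) : A ≤ J0 Sg := le_sSup hA

theorem T_le_normalizer_J0 : T ≤ normalizer (J0 Sg : Set H) := fun t ht => by
  refine mem_normalizer_of_cjSub_le ?_
  rw [J0, cjSub, map_le_iff_le_comap]
  exact sSup_le fun A hA => map_le_iff_le_comap.1 (c.le_J0 (c.sigConj t ht A hA))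

theorem T_le_YY : T ≤ YY P Sg := le_inf c.hTP c.T_le_normalizer_J0

/-- A conjugate of a member centralizing `J0` is a member. -/
theorem sat {A : Subgroup H} (hA : A ∈ Sg) {h : H} (hh : h ∈ P)
    (hc : cjSub h A ≤ centralizer (J0 Sg : Set H)) : cjSub h A ∈ Sg := by
  have hn : T ≤ normalizer ((P ⊓ centralizer (J0 Sg : Set H) : Subgroup H) : Set H) :=
    (le_inf (c.hTP.trans le_normalizer) (c.T_le_normalizer_J0.trans fun g hg => by
      refine mem_normalizer_fintype fun x hx => mem_centralizer_iff.2 fun j hj => ?_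
      have hj' : g⁻¹ * j * g ∈ J0 Sg := (mem_normalizer_iff''.1 hg j).1 hj
      have := mem_centralizer_iff.1 hx _ hj'
      calc j * (g * x * g⁻¹) = g * ((g⁻¹ * j * g) * x) * g⁻¹ := by group
        _ = g * (x * (g⁻¹ * j * g)) * g⁻¹ := by rw [this]
        _ = g * x * g⁻¹ * j := by group)).trans inf_normalizer_le_normalizer_inf
  obtain ⟨k, hk, hm⟩ := c.lift _ inf_le_left hn A hA h hh
    (le_inf (cjSub_le_of_le hh (c.sigP hA)) hc)
  -- `k` centralizes the member it produces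
  have hkc : k⁻¹ ∈ normalizer (cjSub (k * h) A : Set H) :=
    inv_mem ((centralizer_le (c.le_J0 hm)).trans (centralizer_le_normalizer _) hk.2)
  have e := cjSub_eq_of_mem hkc
  rw [cjSub_mul, ← mul_assoc, inv_mul_cancel, one_mul] at e
  rwa [e]

/-- The normaliser of `J0` permutes the members. -/
theorem sig_YY {y : H} (hy : y ∈ YY P Sg) {A : Subgroup H} (hA : A ∈ Sg) : cjSub y A ∈ Sg := by
  have hle : cjSub y A ≤ J0 Sg := (cjSub_mono (c.le_J0 hA)).trans (cjSub_eq_of_mem hy.2).le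
  obtain ⟨k, hk, hm⟩ := c.lift (J0 Sg) c.J0_le_P c.T_le_normalizer_J0 A hA y hy.1 hle
  have := c.sigConj k⁻¹ (inv_mem (c.J0_le_T hk)) _ hm
  rwa [cjSub_mul, ← mul_assoc, inv_mul_cancel, one_mul] at this

/-- A `p`-subgroup of `P` normalized by `T` lies in `T`. -/
theorem le_T {Q : Subgroup H} (hQP : Q ≤ P) (hQ : IsPGroup p Q) (hn : T ≤ normalizer (Q : Set H)) :
    Q ≤ T := by
  obtain ⟨g, hg, hle⟩ := c.syl (T ⊔ Q) (sup_le c.hTP hQP) (isPGroup_sup_of_normalizes c.hT hQ hn)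
  have h1 : cjSub g T = T := eq_of_le_of_card_ge ((cjSub_mono le_sup_left).trans hle)
    (card_cjSub g T).ge
  have h2 : cjSub g (T ⊔ Q) ≤ cjSub g T := hle.trans h1.ge
  have h3 := cjSub_mono (g := g⁻¹) h2
  rw [cjSub_inv_cjSub, cjSub_inv_cjSub] at h3
  exact le_sup_right.trans h3

theorem J0_ne_top_normal (hne : ∃ A, A ∈ Sg) : ¬ P ≤ normalizer (J0 Sg : Set H) := fun hP => by
  obtain ⟨A, hA⟩ := hne
  have h1 := c.core1 (J0 Sg) c.J0_le_P hP (c.hT.to_le c.J0_le_T)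
  exact (c.sigMin A hA).ne (le_bot_iff.1 (h1 ▸ c.le_J0 hA))

end Ctx

end CfsgLib.CGT
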