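import Cfsg.Agent.Lib.CGT.DegreeNear

/-!
The local C(G,T) theorem from the local C*(G,T) theorem.
-/

set_option autoImplicit false
set_option linter.unusedSectionVars false

namespace CfsgLib.CGT.Deg

open Cfsg Subgroup

universe u

variable {G : Type u} [Group G] [Finite G] {p : ℕ} [Fact p.Prime]

theorem omegaOneCenter_sylow_ne_bot (T : Sylow p G) (hT : (T : Subgroup G) ≠ ⊥) :
    omegaOneCenter p (T : Subgroup G) ≠ ⊥ := by
  classical
  haveI := (Subgroup.nontrivial_iff_ne_bot _).2 hT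
  haveI := T.isPGroup'.center_nontrivial
  obtain ⟨⟨z, hz⟩, hz1⟩ := exists_ne (1 : center (T : Subgroup G))
  have hz1' : z ≠ 1 := fun h => hz1 (Subtype.ext h)
  obtain ⟨k, hk⟩ := T.isPGroup' z
  intro e
  have hex : ∃ j, z ^ p ^ j = 1 := ⟨k, hk⟩
  have hj0 : Nat.find hex ≠ 0 := fun h => hz1' (by simpa [h] using Nat.find_spec hex)
  obtain ⟨j, hj'⟩ : ∃ j, Nat.find hex = j + 1 := ⟨Nat.find hex - 1, by omega⟩
  refine Nat.find_min hex (show j < Nat.find hex by omega) ?_
  have hmem : ((z ^ p ^ j : (T : Subgroup G)) : G) ∈ omegaOneCenter p (T : Subgroup G) := by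
    refine subset_closure ⟨⟨(z ^ p ^ j).2, fun y hy => ?_⟩, ?_⟩
    · exact congrArg Subtype.val (mem_center_iff.1 (pow_mem hz (p ^ j)) ⟨y, hy⟩)
    · have := Nat.find_spec hex
      rw [hj', pow_succ, pow_mul] at this
      exact congrArg Subtype.val this
  exact Subtype.ext (mem_bot.1 (e ▸ hmem))

/-- The local C(G,T) theorem, given the local C*(G,T) theorem for `G` and `T`. -/
theorem local_cgt_of_cStar (hG : centralizer (pCore p G : Set G) ≤ pCore p G) (T : Sylow p G)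
    (hstar : cStarOf p (T : Subgroup G) ≠ ⊤ →
      ∃ 𝓑 : Set (Subgroup G), HasBaumannBlockStructure p (T : Subgroup G) 𝓑)
    (hne : charNormalizersJoin (T : Subgroup G) ≠ ⊤) :
    ∃ 𝓑 : Set (Subgroup G), HasBaumannBlockStructure p (T : Subgroup G) 𝓑 ∧
      ∀ E ∈ 𝓑, ∀ m : ℕ, Nonempty (↥E ⧸ pCore p ↥E ≃* ↥(alternatingGroup (Fin (2 * m + 1)))) →
        ∃ n : ℕ, 2 * m + 1 = 2 ^ n + 1 := by
  by_cases hT : (T : Subgroup G) = ⊥
  · have hcore : pCore p G = ⊥ := le_bot_iff.1 ((CfsgLib.Amalgam.pCore_le_sylow T).trans hT.le)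
    have htriv : ∀ g : G, g = 1 := fun g => mem_bot.1 (hcore ▸ hG (fun y hy => by
      rw [hcore, SetLike.mem_coe, mem_bot] at hy
      rw [hy, one_mul, mul_one]))
    -- in the trivial group the empty set is a block structure
    refine ⟨∅, ⟨fun E hE => hE.elim, fun E hE => hE.elim, fun E hE => hE.elim,
      eq_top_iff.2 fun g _ => htriv g ▸ one_mem _, fun E _ hne => absurd (fun g _ => htriv g ▸ one_mem _) hne,
      ?_, fun E hE => hE.elim⟩, fun E hE => hE.elim⟩
    refine le_antisymm (fun g _ => htriv g ▸ one_mem _) (fun g _ => htriv g ▸ one_mem _)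
  obtain ⟨𝓑, h⟩ := hstar fun e =>
    hne (top_le_iff.1 (e ▸ cStar_le_join (omegaOneCenter_sylow_ne_bot T hT)))
  exact ⟨𝓑, h, degree_clause hG T hne h⟩

end CfsgLib.CGT.Deg
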