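import Cfsg.Agent.Lib.CGT.Ctx

/-!
Nodes: a member of order two with a second transvection. Each member has one node; related nodes
are related both ways and the relation is transitive.
-/

set_option autoImplicit false
set_option linter.unusedSectionVars false

namespace CfsgLib.CGT

open Cfsg Subgroup CfsgLib.Amalgam CfsgLib.Amalgam.PFF

variable {H : Type*} [Group H] [Finite H] {p : ℕ} [Fact p.Prime]

theorem cases01 (x : ZMod 2) : x = 0 ∨ x = 1 := by revert x; decide

/-- A transvection with centre `d` and functional `φ`. -/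
structure Tf (V P : Subgroup H) (τ d : H) (φ : H → ZMod 2) : Prop where
  tv : Tv V τ d
  inP : τ ∈ P
  val : ∀ v ∈ V, tvF τ v = φ v

/-- A node. -/
structure Node (V P : Subgroup H) (Sg : Set (Subgroup H)) (a l b e : H) : Prop where
  mem : zpowers a ∈ Sg
  tva : Tv V a l
  tvb : Tv V b e
  bP : b ∈ P
  al : a * l * a⁻¹ = l
  ae : a * e * a⁻¹ = l * e
  bl : b * l * b⁻¹ = e * l
  be : b * e * b⁻¹ = e
  cen : ∀ B ∈ Sg, B ≠ zpowers a → B ≤ centralizer ({a, b} : Set H)

variable {V P T : Subgroup H} {Sg : Set (Subgroup H)}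

theorem tv_apply {τ d v : H} (h : Tv V τ d) (hv : v ∈ V) :
    τ * v * τ⁻¹ = if tvF τ v = 0 then v else d * v := by
  by_cases h0 : tvF τ v = 0
  · rw [if_pos h0]; exact tvF_eq_zero_iff.1 h0
  · rw [if_neg h0]; exact h.moved hv fun e => h0 (tvF_zero e)

theorem tv_centre {τ d d' v : H} (h : Tv V τ d) (h' : Tv V τ d') (hv : v ∈ V)
    (hm : τ * v * τ⁻¹ ≠ v) : d = d' :=
  mul_right_cancel ((h.moved hv hm).symm.trans (h'.moved hv hm))

namespace Ctx

variable (c : Ctx p V P T Sg)

include c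

theorem tf_self {τ d : H} (h : Tv V τ d) (hP : τ ∈ P) : Tf V P τ d (tvF τ) := ⟨h, hP, fun _ _ => rfl⟩

theorem tf_ext {τ τ' d : H} {φ φ' : H → ZMod 2} (h : Tf V P τ d φ) (h' : Tf V P τ' d φ')
    (he : ∀ v ∈ V, φ v = φ' v) : τ = τ' := c.ext h.inP h'.inP fun v hv => by
  rw [tv_apply h.tv hv, tv_apply h'.tv hv, h.val v hv, h'.val v hv, he v hv]

theorem tv_sq {τ d : H} (h : Tv V τ d) (hP : τ ∈ P) (hd : τ * d * τ⁻¹ = d) : τ⁻¹ = τ := by
  refine (mul_eq_one_iff_eq_inv.1 (c.eq_one (P.mul_mem hP hP) fun v hv => ?_)).symm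
  rw [show τ * τ * v * (τ * τ)⁻¹ = τ * (τ * v * τ⁻¹) * τ⁻¹ by group]
  rcases h.val v hv with h1 | h1
  · rw [h1, h1]
  · rw [h1, show τ * (d * v) * τ⁻¹ = (τ * d * τ⁻¹) * (τ * v * τ⁻¹) by group, hd, h1, ← mul_assoc,
      h.two, one_mul]

/-- Conjugation of a transvection by a transvection. -/
theorem tf_conj {τ d r dr : H} {φ ψ : H → ZMod 2} (h : Tf V P τ d φ) (hr : Tf V P r dr ψ)
    (hself : r * dr * r⁻¹ = dr) :
    Tf V P (r * τ * r) (r * d * r⁻¹) (fun v => φ v + ψ v * φ dr) := by
  have hinv := c.tv_sq hr.tv hr.inP hself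
  have h1 := h.tv.conj (g := r) (fun v hv => c.conjV hr.inP hv)
    (fun v hv => by simpa using c.conjV (P.inv_mem hr.inP) hv)
  rw [show r * τ * r⁻¹ = r * τ * r by rw [hinv]] at h1
  refine ⟨h1, P.mul_mem (P.mul_mem hr.inP h.inP) hr.inP, fun v hv => ?_⟩
  rw [show r * τ * r = r * τ * r⁻¹ by rw [hinv], tvF_conj]
  have e : r⁻¹ * v * r = r * v * r⁻¹ := by rw [hinv]
  rw [e, tv_apply hr.tv hv, hr.val v hv]
  rcases cases01 (ψ v) with h0 | h0
  · rw [if_pos h0, h0, zero_mul, add_zero, h.val v hv]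
  · rw [if_neg (by rw [h0]; exact one_ne_zero), h0, one_mul, h.tv.tvF_mul hr.tv.mem hv, h.val v hv,
      h.val dr hr.tv.mem, add_comm]

/-- A symmetric pair: the conjugate has the sum of the centres and of the functionals. -/
theorem tf_refl {τ d r dr : H} {φ ψ : H → ZMod 2} (h : Tf V P τ d φ) (hr : Tf V P r dr ψ)
    (hself : r * dr * r⁻¹ = dr) (h1 : ψ d = 1) (h2 : φ dr = 1) :
    Tf V P (r * τ * r) (dr * d) (fun v => φ v + ψ v) := by
  have := c.tf_conj h hr hself
  have e : r * d * r⁻¹ = dr * d := by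
    rw [tv_apply hr.tv h.tv.mem, hr.val d h.tv.mem, h1, if_neg one_ne_zero]
  rw [e] at this
  exact ⟨this.tv, this.inP, fun v hv => by rw [this.val v hv]; simp only [h2, mul_one]⟩

/-- An element fixing centre and functional of a transvection commutes with it. -/
theorem tf_commute {τ d x : H} {φ : H → ZMod 2} (h : Tf V P τ d φ) (hx : x ∈ P)
    (hd : x * d * x⁻¹ = d) (hφ : ∀ v ∈ V, φ (x⁻¹ * v * x) = φ v) : x * τ = τ * x := by
  have h1 := h.tv.conj (g := x) (fun v hv => c.conjV hx hv)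
    (fun v hv => by simpa using c.conjV (P.inv_mem hx) hv)
  rw [hd] at h1
  have h2 : Tf V P (x * τ * x⁻¹) d φ := ⟨h1, P.mul_mem (P.mul_mem hx h.inP) (P.inv_mem hx),
    fun v hv => by rw [tvF_conj, h.val _ (by simpa using c.conjV (P.inv_mem hx) hv), hφ v hv]⟩
  exact mul_inv_eq_iff_eq_mul.1 (c.tf_ext h2 h fun _ _ => rfl)

/-- Two transvections fixing each other's centres commute. -/
theorem tf_comm_two {τ d σ e : H} {φ ψ : H → ZMod 2} (h : Tf V P τ d φ) (h' : Tf V P σ e ψ)
    (h1 : φ e = 0) (h2 : ψ d = 0) : τ * σ = σ * τ := by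
  refine c.ext (P.mul_mem h.inP h'.inP) (P.mul_mem h'.inP h.inP) fun v hv => ?_
  exact h.tv.comm_on h'.tv (tvF_eq_zero_iff.1 ((h.val e h'.tv.mem).trans h1))
    (tvF_eq_zero_iff.1 ((h'.val d h.tv.mem).trans h2)) hv

/-- Elements commuting with a transvection fix its centre. -/
theorem fix_centre {τ d x v : H} (h : Tv V τ d) (hv : v ∈ V) (hm : τ * v * τ⁻¹ ≠ v) (hx : x ∈ P)
    (hc : x * τ = τ * x) : x * d * x⁻¹ = d := by
  have h1 := h.conj (g := x) (fun v hv => c.conjV hx hv)
    (fun v hv => by simpa using c.conjV (P.inv_mem hx) hv)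
  rw [show x * τ * x⁻¹ = τ by rw [hc, mul_inv_cancel_right]] at h1
  exact tv_centre h1 h hv hm

end Ctx

/-- The functionals and centres of a node. -/
structure NodeVals (V : Subgroup H) (φ β : H → ZMod 2) (l e : H) : Prop where
  lV : l ∈ V
  eV : e ∈ V
  φl : φ l = 0
  φe : φ e = 1
  βl : β l = 1
  βe : β e = 0

namespace Node

variable {a l b e : H} (n : Node V P Sg a l b e)

include n

theorem a_mem : a ∈ zpowers a := mem_zpowers a

theorem a_moves : a * e * a⁻¹ ≠ e := fun h => n.tva.ne (mul_eq_right.1 (n.ae.symm.trans h))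

theorem b_moves : b * l * b⁻¹ ≠ l := fun h => n.tvb.ne (mul_eq_right.1 (n.bl.symm.trans h))

theorem vals : NodeVals V (tvF a) (tvF b) l e :=
  ⟨n.tva.mem, n.tvb.mem, tvF_zero n.al, tvF_one n.a_moves, tvF_one n.b_moves, tvF_zero n.be⟩

theorem aP (c : Ctx p V P T Sg) : a ∈ P := c.sigP n.mem (mem_zpowers a)

theorem tfa (c : Ctx p V P T Sg) : Tf V P a l (tvF a) := c.tf_self n.tva (n.aP c)

theorem tfb (c : Ctx p V P T Sg) : Tf V P b e (tvF b) := c.tf_self n.tvb n.bP

theorem cen_mem {B : Subgroup H} (hB : B ∈ Sg) (hne : B ≠ zpowers a) {x : H} (hx : x ∈ B) :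
    x * a = a * x ∧ x * b = b * x :=
  ⟨(mem_centralizer_iff.1 (n.cen B hB hne hx) a (Or.inl rfl)).symm,
    (mem_centralizer_iff.1 (n.cen B hB hne hx) b (Or.inr rfl)).symm⟩

theorem braid (c : Ctx p V P T Sg) : a * b * a = b * a * b := by
  have hv := n.vals
  have h1 := c.tf_refl (n.tfb c) (n.tfa c) n.al hv.φe hv.βl
  have h2 := c.tf_refl (n.tfa c) (n.tfb c) n.be hv.βl hv.φe
  rw [c.commV hv.eV hv.lV] at h2
  exact c.tf_ext h1 h2 fun v _ => add_comm _ _

theorem b_eq_conj (c : Ctx p V P T Sg) : ∃ g ∈ P, b = g * a * g⁻¹ := by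
  refine ⟨a * b, P.mul_mem (n.aP c) n.bP, ?_⟩
  have hb := n.braid c
  calc b = (b * a * b) * (b⁻¹ * a⁻¹) := by group
    _ = a * b * a * (b⁻¹ * a⁻¹) := by rw [hb]
    _ = a * b * a * (a * b)⁻¹ := by rw [mul_inv_rev]

/-- A member other than `A` whose transvection has a centre moved by `b` does not exist. -/
theorem not_moved (c : Ctx p V P T Sg) {x d : H} {ψ : H → ZMod 2} (hx : Tf V P x d ψ)
    (hmem : zpowers x ∈ Sg) (hne : zpowers x ≠ zpowers a) {v : H} (hv : v ∈ V) (hψ : ψ v = 1) :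
    tvF b d = 0 := by
  have h1 := (n.cen_mem hmem hne (mem_zpowers x)).2
  have hm : x * v * x⁻¹ ≠ v := fun h => by
    have := (hx.val v hv).symm.trans (tvF_zero h)
    rw [hψ] at this
    exact one_ne_zero this
  exact tvF_zero (c.fix_centre hx.tv hv hm n.bP h1.symm)

/-- The centre of the root and another functional with a value distinguishing it. -/
theorem false_of_same_centre (c : Ctx p V P T Sg) {x : H} {ψ : H → ZMod 2} (hx : Tf V P x l ψ)
    (hmem : zpowers x ∈ Sg) {v w : H} (hv : v ∈ V) (hψ : ψ v = 1) (hw : w ∈ V)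
    (hne : ψ w ≠ tvF a w) : False := by
  by_cases he : zpowers x = zpowers a
  · have hx' : x ∈ zpowers a := he ▸ mem_zpowers x
    obtain ⟨k, hk⟩ := mem_zpowers_iff.1 hx'
    have hi := c.tv_sq n.tva (n.aP c) n.al
    rcases Int.even_or_odd' k with ⟨j, rfl | rfl⟩
    · have h2 : x = 1 := by
        rw [← hk, zpow_mul, show a ^ (2 : ℤ) = a * a from zpow_two a,
          show a * a = 1 from by nth_rw 1 [← hi]; exact inv_mul_cancel a, one_zpow]
      have := (hx.val v hv).symm.trans (tvF_zero (by rw [h2]; group))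
      rw [hψ] at this
      exact one_ne_zero this
    · have h2 : x = a := by
        rw [← hk, zpow_add, zpow_mul, show a ^ (2 : ℤ) = a * a from zpow_two a,
          show a * a = 1 from by nth_rw 1 [← hi]; exact inv_mul_cancel a, one_zpow, one_mul, zpow_one]
      exact hne ((hx.val w hw).symm.trans (by rw [h2]))
  · have := n.not_moved c hx hmem he hv hψ
    rw [n.vals.βl] at this
    exact one_ne_zero this

/-- The other choice of the second transvection. -/
theorem flip (c : Ctx p V P T Sg) :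
    Node V P Sg a l (a * b * a) (l * e) ∧ ∀ v ∈ V, tvF (a * b * a) v = tvF b v + tvF a v := by
  have hv := n.vals
  have h := c.tf_refl (n.tfb c) (n.tfa c) n.al hv.φe hv.βl
  refine ⟨⟨n.mem, n.tva, h.tv, h.inP, n.al, ?_, ?_, ?_, fun B hB hne x hx => ?_⟩, h.val⟩
  · rw [tv_apply n.tva h.tv.mem, n.tva.tvF_mul hv.lV hv.eV, hv.φl, hv.φe, zero_add,
      if_neg one_ne_zero]
  · rw [tv_apply h.tv hv.lV, h.val l hv.lV, hv.βl, hv.φl, add_zero, if_neg one_ne_zero]
  · rw [tv_apply h.tv h.tv.mem, h.val _ h.tv.mem, n.tvb.tvF_mul hv.lV hv.eV, hv.βl, hv.βe, add_zero,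
      n.tva.tvF_mul hv.lV hv.eV, hv.φl, hv.φe, zero_add, if_pos (CharTwo.add_self_eq_zero 1)]
  · obtain ⟨h1, h2⟩ := n.cen_mem hB hne hx
    refine mem_centralizer_iff.2 ?_
    rintro y (rfl | rfl)
    · exact h1.symm
    · calc a * b * a * x = a * b * (x * a) := by rw [h1]; group
        _ = a * (x * b) * a := by rw [h2]; group
        _ = x * (a * b * a) := by rw [← mul_assoc a x b, ← h1]; group

/-- Centralizing the generators. -/
theorem comm_mul {B : Subgroup H} {x y z : H} (_hx : x ∈ B) (h1 : x * y = y * x) (h2 : x * z = z * x) :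
    x * (y * z) = y * z * x := by
  rw [← mul_assoc, h1, mul_assoc, h2, mul_assoc]

/-- A conjugate of the root commuting with all members is a member. -/
theorem sat_conj (c : Ctx p V P T Sg) {g x : H} (hg : g ∈ P) (hx : x = g * a * g⁻¹)
    (hc : ∀ B ∈ Sg, ∀ y ∈ B, y * x = x * y) : zpowers x ∈ Sg := by
  have e : zpowers x = cjSub g (zpowers a) := by
    rw [hx, cjSub, MonoidHom.map_zpowers]
    rfl
  rw [e]
  refine c.sat n.mem hg ?_
  rw [← e, zpowers_le]
  intro y hy
  have : J0 Sg ≤ centralizer ({x} : Set H) :=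
    sSup_le fun B hB y hy => mem_centralizer_singleton_iff.2 (hc B hB y hy)
  exact mem_centralizer_singleton_iff.1 (this hy)

/-- Each member has only one node. -/
theorem unique_aux (c : Ctx p V P T Sg) {l' b' e' : H} (n' : Node V P Sg a l' b' e')
    (h1 : tvF b e' = 1) : b' = a * b * a := by
  have hl : l' = l := tv_centre n'.tva n.tva n.tvb.mem n.a_moves
  rw [hl] at n'
  have hv := n.vals
  have hv' := n'.vals
  obtain ⟨g, hg, hbg⟩ := n.b_eq_conj c
  have hi' := c.tv_sq n'.tvb n'.bP n'.be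
  have hib := c.tv_sq n.tvb n.bP n.be
  have hoth : ∀ B ∈ Sg, B ≠ zpowers a → ∀ y ∈ B,
      y * a = a * y ∧ y * b = b * y ∧ y * b' = b' * y := fun B hB hne y hy =>
    ⟨(n.cen_mem hB hne hy).1, (n.cen_mem hB hne hy).2, (n'.cen_mem hB hne hy).2⟩
  rcases cases01 (tvF b' e) with h2 | h2
  · exfalso
    -- one-sided: a member with the centre `l`
    have hw := c.tf_conj (n'.tfb c) (n.tfb c) n.be
    have hwc : b * e' * b⁻¹ = e * e' := by rw [tv_apply n.tvb hv'.eV, h1, if_neg one_ne_zero]
    rw [hwc] at hw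
    set τ := b * b' * b * b' with hτ
    have hτP : τ ∈ P := P.mul_mem (P.mul_mem (P.mul_mem n.bP n'.bP) n.bP) n'.bP
    have hwb : ∀ v ∈ V, tvF (b * b' * b) v = tvF b' v := fun v hv => by
      rw [hw.val v hv]; simp [h2]
    have e2 : ∀ v ∈ V, τ * v * τ⁻¹ = if tvF b' v = 0 then v else e * v := fun v hv => by
      rw [hτ, show b * b' * b * b' * v * (b * b' * b * b')⁻¹ =
        (b * b' * b) * (b' * v * b'⁻¹) * (b * b' * b)⁻¹ by group, tv_apply n'.tvb hv]
      rcases cases01 (tvF b' v) with h0 | h0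
      · rw [if_pos h0, if_pos h0, tv_apply hw.tv hv, hwb v hv, if_pos h0]
      · rw [if_neg (by rw [h0]; exact one_ne_zero), if_neg (by rw [h0]; exact one_ne_zero),
          tv_apply hw.tv (V.mul_mem hv'.eV hv), hwb _ (V.mul_mem hv'.eV hv),
          n'.tvb.tvF_mul hv'.eV hv, hv'.βe, h0, zero_add, if_neg one_ne_zero, ← mul_assoc,
          show e * e' * e' = e by rw [mul_assoc, n'.tvb.two, mul_one]]
    have hTτ : Tv V τ e := ⟨fun v hv => c.conjV hτP hv, fun _ hv _ hw => c.commV hv hw, hv.eV,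
      n.tvb.two, n.tvb.ne, fun v hv => by rw [e2 v hv]; split <;> simp⟩
    have hτf : Tf V P τ e (tvF b') := ⟨hTτ, hτP, fun v hv => by
      rcases cases01 (tvF b' v) with h0 | h0
      · rw [h0]; exact tvF_zero (by rw [e2 v hv, if_pos h0])
      · rw [h0]; refine tvF_one ?_
        rw [e2 v hv, if_neg (by rw [h0]; exact one_ne_zero)]
        exact fun he => n.tvb.ne (mul_eq_right.1 he)⟩
    have hτe : τ * e * τ⁻¹ = e := by rw [tv_apply hTτ hv.eV, hτf.val e hv.eV, if_pos h2]
    have hy := c.tf_refl (n.tfa c) hτf hτe hv'.βl hv.φe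
    have hval : tvF b (e * l) = 1 := by rw [n.tvb.tvF_mul hv.eV hv.lV, hv.βe, hv.βl, zero_add]
    have hz := c.tf_refl hy (n.tfb c) n.be hval (by simp [hv.φe, h2])
    rw [show e * (e * l) = l by rw [← mul_assoc, n.tvb.two, one_mul]] at hz
    have hτi := c.tv_sq hTτ hτP hτe
    have hmem : zpowers (b * (τ * a * τ) * b) ∈ Sg := by
      refine n.sat_conj c (g := b * τ) (P.mul_mem n.bP hτP)
        (by rw [mul_inv_rev, hτi, hib]; group) fun B hB y hy => ?_
      by_cases hne : B = zpowers a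
      · subst hne
        have hcz : a * (b * (τ * a * τ) * b) = b * (τ * a * τ) * b * a :=
          c.tf_comm_two (n.tfa c) hz hv.φl (by
            show tvF a l + tvF b' l + tvF b l = 0
            rw [hv.φl, hv'.βl, hv.βl, zero_add]; decide)
        obtain ⟨k, rfl⟩ := mem_zpowers_iff.1 hy
        exact (Commute.zpow_left (show Commute a _ from hcz) k).eq
      · obtain ⟨q1, q2, q3⟩ := hoth B hB hne y hy
        have hτc : Commute y τ :=
          (((show Commute y b from q2).mul_right q3).mul_right q2).mul_right q3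
        exact ((show Commute y b from q2).mul_right ((hτc.mul_right q1).mul_right hτc)).mul_right q2
    refine n.false_of_same_centre c hz hmem hv.eV (by simp [hv.φe, h2, hv.βe]) hv'.eV (fun hh => ?_)
    simp [hv'.βe, h1] at hh
  · -- symmetric
    have hx := c.tf_refl (n.tfb c) (n'.tfb c) n'.be h2 h1
    have hmem : zpowers (b' * b * b') ∈ Sg := by
      refine n.sat_conj c (g := b' * g) (P.mul_mem n'.bP hg)
        (by rw [mul_inv_rev, hi', hbg]; group) fun B hB y hy => ?_
      by_cases hne : B = zpowers a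
      · subst hne
        have hcx : a * (b' * b * b') = b' * b * b' * a :=
          c.tf_comm_two (n.tfa c) hx
            (by rw [n.tva.tvF_mul hv'.eV hv.eV, hv'.φe, hv.φe]; decide)
            (by show tvF b l + tvF b' l = 0; rw [hv.βl, hv'.βl]; decide)
        obtain ⟨k, rfl⟩ := mem_zpowers_iff.1 hy
        exact (Commute.zpow_left (show Commute a _ from hcx) k).eq
      · obtain ⟨-, q2, q3⟩ := hoth B hB hne y hy
        exact ((show Commute y b' from q3).mul_right q2).mul_right q3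
    by_cases he : zpowers (b' * b * b') = zpowers a
    · have hm : b' * b * b' ∈ zpowers a := he ▸ mem_zpowers _
      have hxa : b' * b * b' = a := by
        obtain ⟨k, hk⟩ := mem_zpowers_iff.1 hm
        have h11 : a * a = 1 := by
          nth_rw 1 [← c.tv_sq n.tva (n.aP c) n.al]; exact inv_mul_cancel a
        rcases Int.even_or_odd' k with ⟨j, rfl | rfl⟩
        · exfalso
          rw [zpow_mul, zpow_two, h11, one_zpow] at hk
          have := hx.val e hv.eV
          rw [← hk, tvF_zero (by group)] at this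
          simp [hv.βe, h2] at this
        · rw [← hk, zpow_add, zpow_mul, zpow_two, h11, one_zpow, one_mul, zpow_one]
      have hfl := c.tf_refl (n.tfb c) (n.tfa c) n.al hv.φe hv.βl
      have hc : e' * e = l := by
        rw [hxa] at hx
        exact tv_centre hx.tv n.tva hv.eV n.a_moves
      have he' : e' = l * e := by
        rw [← hc, mul_assoc, n.tvb.two, mul_one]
      refine c.tf_ext (n'.tfb c) (he' ▸ hfl) fun v hv1 => ?_
      have := hx.val v hv1
      rw [hxa] at this
      show tvF b' v = tvF b v + tvF a v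
      rw [this, ← add_assoc, CharTwo.add_self_eq_zero, zero_add]
    · exfalso
      have := n.not_moved c hx hmem he (v := e) hv.eV (by simp [hv.βe, h2])
      rw [n.tvb.tvF_mul hv'.eV hv.eV, h1, hv.βe] at this
      exact absurd this (by decide)

theorem unique (c : Ctx p V P T Sg) {l' b' e' : H} (n' : Node V P Sg a l' b' e') :
    b' = b ∨ b' = a * b * a := by
  rcases cases01 (tvF b e') with h | h
  · left
    obtain ⟨nf, hf⟩ := n.flip c
    have hi := c.tv_sq n.tva (n.aP c) n.al
    have h1 : tvF (a * b * a) e' = 1 := by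
      rw [hf e' n'.tvb.mem, h, n'.vals.φe, zero_add]
    rw [nf.unique_aux c n' h1]
    have h11 : a * a = 1 := by nth_rw 1 [← hi]; exact inv_mul_cancel a
    calc a * (a * b * a) * a = (a * a) * b * (a * a) := by group
      _ = b := by rw [h11, one_mul, mul_one]
  · exact Or.inr (n.unique_aux c n' h)

end Node

end CfsgLib.CGT
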