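import Cfsg.Agent.Lib.CGT.Node

/-!
The relation between nodes of different members.
-/

set_option autoImplicit false
set_option linter.unusedSectionVars false

namespace CfsgLib.CGT

open Cfsg Subgroup CfsgLib.Amalgam CfsgLib.Amalgam.PFF

variable {H : Type*} [Group H] [Finite H] {p : ℕ} [Fact p.Prime]
  {V P T : Subgroup H} {Sg : Set (Subgroup H)}

/-- The second centre of one node is moved by the other node. -/
def Lk (b : H) (e' : H) : Prop := tvF b e' = 1

namespace Node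

variable {a l b e a' l' b' e' a'' l'' b'' e'' : H}

/-- The values between different nodes. -/
theorem cross (c : Ctx p V P T Sg) (n : Node V P Sg a l b e) (n' : Node V P Sg a' l' b' e')
    (hne : zpowers a ≠ zpowers a') :
    tvF a l' = 0 ∧ tvF a e' = 0 ∧ tvF b l' = 0 := by
  obtain ⟨h1, h2⟩ := n'.cen_mem n.mem hne (mem_zpowers a)
  obtain ⟨-, h4⟩ := n.cen_mem n'.mem hne.symm (mem_zpowers a')
  exact ⟨tvF_zero (c.fix_centre n'.tva n'.tvb.mem n'.a_moves (n.aP c) h1),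
    tvF_zero (c.fix_centre n'.tvb n'.tva.mem n'.b_moves (n.aP c) h2),
    tvF_zero (c.fix_centre n'.tva n'.tvb.mem n'.a_moves n.bP h4.symm)⟩

/-- Commutation with the members different from two given ones. -/
theorem others (n : Node V P Sg a l b e) (n' : Node V P Sg a' l' b' e') {B : Subgroup H} (hB : B ∈ Sg)
    (h1 : B ≠ zpowers a) (h2 : B ≠ zpowers a') {y : H} (hy : y ∈ B) :
    Commute y a ∧ Commute y b ∧ Commute y a' ∧ Commute y b' :=
  ⟨(n.cen_mem hB h1 hy).1, (n.cen_mem hB h1 hy).2, (n'.cen_mem hB h2 hy).1, (n'.cen_mem hB h2 hy).2⟩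

theorem comm_zpowers {x : H} (h : Commute a x) {y : H} (hy : y ∈ zpowers a) : y * x = x * y := by
  obtain ⟨k, rfl⟩ := mem_zpowers_iff.1 hy
  exact (h.zpow_left k).eq

/-- The relation is symmetric. -/
theorem lk_symm (c : Ctx p V P T Sg) (n : Node V P Sg a l b e) (n' : Node V P Sg a' l' b' e')
    (hne : zpowers a ≠ zpowers a') (h : Lk b e') : Lk b' e := by
  by_contra h'
  have h0 : tvF b' e = 0 := (cases01 _).resolve_right h'
  obtain ⟨x1, x2, x3⟩ := n.cross c n' hne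
  obtain ⟨y1, y2, y3⟩ := n'.cross c n hne.symm
  have hv := n.vals
  have hv' := n'.vals
  have h1 : tvF b e' = 1 := h
  have hib := c.tv_sq n.tvb n.bP n.be
  have hia' := c.tv_sq n'.tva (n'.aP c) n'.al
  have hib' := c.tv_sq n'.tvb n'.bP n'.be
  -- the translation
  have hw := c.tf_conj (n'.tfb c) (n.tfb c) n.be
  have hwc : b * e' * b⁻¹ = e * e' := by rw [tv_apply n.tvb hv'.eV, h1, if_neg one_ne_zero]
  rw [hwc] at hw
  set τ := b * b' * b * b' with hτ
  have hτP : τ ∈ P := P.mul_mem (P.mul_mem (P.mul_mem n.bP n'.bP) n.bP) n'.bP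
  have hwb : ∀ v ∈ V, tvF (b * b' * b) v = tvF b' v := fun v hv0 => by
    rw [hw.val v hv0]; simp [h0]
  have e2 : ∀ v ∈ V, τ * v * τ⁻¹ = if tvF b' v = 0 then v else e * v := fun v hv0 => by
    rw [hτ, show b * b' * b * b' * v * (b * b' * b * b')⁻¹ =
      (b * b' * b) * (b' * v * b'⁻¹) * (b * b' * b)⁻¹ by group, tv_apply n'.tvb hv0]
    rcases cases01 (tvF b' v) with k0 | k0
    · rw [if_pos k0, if_pos k0, tv_apply hw.tv hv0, hwb v hv0, if_pos k0]
    · rw [if_neg (by rw [k0]; exact one_ne_zero), if_neg (by rw [k0]; exact one_ne_zero),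
        tv_apply hw.tv (V.mul_mem hv'.eV hv0), hwb _ (V.mul_mem hv'.eV hv0),
        n'.tvb.tvF_mul hv'.eV hv0, hv'.βe, k0, zero_add, if_neg one_ne_zero, ← mul_assoc,
        show e * e' * e' = e by rw [mul_assoc, n'.tvb.two, mul_one]]
  have hTτ : Tv V τ e := ⟨fun v hv0 => c.conjV hτP hv0, fun _ hv0 _ hw0 => c.commV hv0 hw0, hv.eV,
    n.tvb.two, n.tvb.ne, fun v hv0 => by rw [e2 v hv0]; split <;> simp⟩
  have hτf : Tf V P τ e (tvF b') := ⟨hTτ, hτP, fun v hv0 => by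
    rcases cases01 (tvF b' v) with k0 | k0
    · rw [k0]; exact tvF_zero (by rw [e2 v hv0, if_pos k0])
    · rw [k0]; refine tvF_one ?_
      rw [e2 v hv0, if_neg (by rw [k0]; exact one_ne_zero)]
      exact fun he => n.tvb.ne (mul_eq_right.1 he)⟩
  have hτe : τ * e * τ⁻¹ = e := by rw [tv_apply hTτ hv.eV, hτf.val e hv.eV, if_pos h0]
  -- move the functional to `tvF a'`
  have h2 := c.tf_conj hτf (n'.tfa c) n'.al
  rw [tvF_eq_zero_iff.1 y2] at h2
  have h3 := c.tf_conj h2 (n'.tfb c) n'.be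
  rw [tvF_eq_zero_iff.1 h0] at h3
  set σ := b' * (a' * τ * a') * b' with hσ
  have hσf : Tf V P σ e (tvF a') := ⟨h3.tv, h3.inP, fun v hv0 => by
    rw [h3.val v hv0]
    simp only [hv'.βe, hv'.φe, hv'.βl]
    ring_nf
    rcases cases01 (tvF b' v) with k0 | k0 <;> rcases cases01 (tvF a' v) with k1 | k1 <;>
      rw [k0, k1] <;> decide⟩
  have hσe : σ * e * σ⁻¹ = e := by rw [tv_apply hσf.tv hv.eV, hσf.val e hv.eV, if_pos y2]
  have hσi := c.tv_sq hσf.tv hσf.inP hσe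
  have hz := c.tf_conj (n.tfa c) hσf hσe
  rw [tv_apply hσf.tv hv.lV, hσf.val l hv.lV, if_pos y1] at hz
  have hmem : zpowers (σ * a * σ) ∈ Sg := by
    refine n.sat_conj c (g := σ) hσf.inP (by rw [hσi]) fun B hB y hy => ?_
    by_cases q : B = zpowers a
    · subst q
      exact comm_zpowers (c.tf_comm_two (n.tfa c) hz hv.φl (by simp [hv.φl, y1])) hy
    by_cases q' : B = zpowers a'
    · subst q'
      exact comm_zpowers (c.tf_comm_two (n'.tfa c) hz y1 (by simp [x1, hv'.φl])) hy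
    obtain ⟨q1, q2, q3, q4⟩ := n.others n' hB q q' hy
    have hτc : Commute y τ := ((q2.mul_right q4).mul_right q2).mul_right q4
    have hσc : Commute y σ := (q4.mul_right ((q3.mul_right hτc).mul_right q3)).mul_right q4
    exact (hσc.mul_right q1).mul_right hσc
  refine n.false_of_same_centre c hz hmem hv.eV (by simp [hv.φe, y2]) hv'.eV (fun hh => ?_)
  simp [x2, hv'.φe, hv.φe] at hh

/-- The relation is transitive. -/
theorem lk_trans (c : Ctx p V P T Sg) (n : Node V P Sg a l b e) (n' : Node V P Sg a' l' b' e')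
    (n'' : Node V P Sg a'' l'' b'' e'') (h1 : zpowers a ≠ zpowers a') (h2 : zpowers a' ≠ zpowers a'')
    (h3 : zpowers a ≠ zpowers a'') (k1 : Lk b e') (k2 : Lk b' e'') : Lk b e'' := by
  by_contra h'
  have r3 : tvF b e'' = 0 := (cases01 _).resolve_right h'
  have r3' : tvF b'' e = 0 := (cases01 _).resolve_right fun hh => h' (n''.lk_symm c n h3.symm hh)
  have r1 : tvF b e' = 1 := k1
  have r1' : tvF b' e = 1 := n.lk_symm c n' h1 k1
  have r2 : tvF b' e'' = 1 := k2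
  have r2' : tvF b'' e' = 1 := n'.lk_symm c n'' h2 k2
  obtain ⟨p1, p2, p3⟩ := n.cross c n' h1
  obtain ⟨q1, q2, q3⟩ := n'.cross c n h1.symm
  obtain ⟨s1, s2, s3⟩ := n.cross c n'' h3
  obtain ⟨t1, t2, t3⟩ := n''.cross c n h3.symm
  obtain ⟨u1, u2, u3⟩ := n'.cross c n'' h2
  obtain ⟨w1, w2, w3⟩ := n''.cross c n' h2.symm
  have va := n.vals
  have vb := n'.vals
  have vc := n''.vals
  have ib := c.tv_sq n.tvb n.bP n.be
  have ia := c.tv_sq n.tva (n.aP c) n.al
  have ib' := c.tv_sq n'.tvb n'.bP n'.be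
  have ib'' := c.tv_sq n''.tvb n''.bP n''.be
  have ia'' := c.tv_sq n''.tva (n''.aP c) n''.al
  have Fa : ∀ {x y : H}, x ∈ V → y ∈ V → tvF a (x * y) = tvF a x + tvF a y :=
    fun hx hy => n.tva.tvF_mul hx hy
  have Fb : ∀ {x y : H}, x ∈ V → y ∈ V → tvF b (x * y) = tvF b x + tvF b y :=
    fun hx hy => n.tvb.tvF_mul hx hy
  have Fa' : ∀ {x y : H}, x ∈ V → y ∈ V → tvF a' (x * y) = tvF a' x + tvF a' y :=
    fun hx hy => n'.tva.tvF_mul hx hy
  have Fb' : ∀ {x y : H}, x ∈ V → y ∈ V → tvF b' (x * y) = tvF b' x + tvF b' y :=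
    fun hx hy => n'.tvb.tvF_mul hx hy
  have Fa'' : ∀ {x y : H}, x ∈ V → y ∈ V → tvF a'' (x * y) = tvF a'' x + tvF a'' y :=
    fun hx hy => n''.tva.tvF_mul hx hy
  have Fb'' : ∀ {x y : H}, x ∈ V → y ∈ V → tvF b'' (x * y) = tvF b'' x + tvF b'' y :=
    fun hx hy => n''.tvb.tvF_mul hx hy
  have vals : ∀ {x : H} {d : H} {φ : H → ZMod 2}, Tf V P x d φ → d ∈ V := fun h => h.tv.mem
  -- the chain
  have X1 := c.tf_refl (n'.tfa c) (n'.tfb c) n'.be vb.βl vb.φe
  have X2 := c.tf_refl X1 (n.tfb c) n.be (by simp [Fb vb.eV vb.lV, r1, p3]) (by simp [q2, r1'])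
  have hA := vals X1
  have hB := vals X2
  have X3 := c.tf_refl X2 (n.tfa c) n.al
    (by simp [Fa va.eV hA, Fa vb.eV vb.lV, va.φe, p1, p2]) (by simp [q1, q3, va.βl])
  have hC := vals X3
  have X4 := c.tf_refl X3 (n''.tfb c) n''.be
    (by simp [Fb'' va.lV hB, Fb'' va.eV hA, Fb'' vb.eV vb.lV, t3, r3', r2', w3])
    (by simp [u2, r2, r3, s2])
  have hD := vals X4
  have X5 := c.tf_refl X4 (n''.tfa c) n''.al
    (by simp [Fa'' vc.eV hC, Fa'' va.lV hB, Fa'' va.eV hA, Fa'' vb.eV vb.lV, vc.φe, t1, t2, w1, w2])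
    (by simp [u1, u3, s3, s1, vc.βl])
  have hE := vals X5
  have R := c.tf_refl (n'.tfb c) (n.tfb c) n.be r1 r1'
  have hR : b * b' * b * (e * e') * (b * b' * b)⁻¹ = e * e' := by
    rw [tv_apply R.tv R.tv.mem, R.val _ R.tv.mem]
    refine if_pos ?_
    simp [Fb' va.eV vb.eV, Fb va.eV vb.eV, va.βe, vb.βe, r1, r1']; decide
  have X6 := c.tf_refl X5 R hR
    (by simp [Fb' vc.lV hD, Fb' vc.eV hC, Fb' va.lV hB, Fb' va.eV hA, Fb' vb.eV vb.lV, Fb vc.lV hD,
      Fb vc.eV hC, Fb va.lV hB, Fb va.eV hA, Fb vb.eV vb.lV, va.βe, vb.βe, va.βl, vb.βl, q3, r1, r1',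
      r2, r3, p3, s3, u3]; decide)
    (by simp [Fa' va.eV vb.eV, Fb' va.eV vb.eV, Fb va.eV vb.eV, Fa va.eV vb.eV, Fb'' va.eV vb.eV,
      Fa'' va.eV vb.eV, va.βe, vb.βe, va.φe, vb.φe, q2, p2, r1, r1', r2', r3', t2, w2]; decide)
  have hF := vals X6
  have X7 := c.tf_refl X6 (n''.tfb c) n''.be
    (by simp [Fb'' (vals R) hE, Fb'' va.eV vb.eV, Fb'' vc.lV hD, Fb'' vc.eV hC, Fb'' va.lV hB,
      Fb'' va.eV hA, Fb'' vb.eV vb.lV, vc.βe, vc.βl, t3, w3, r2', r3']; decide)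
    (by simp [u2, r2, r3, s2, vc.φe, vc.βe]; decide)
  obtain ⟨g, hg, hx⟩ : ∃ g ∈ P, b'' * ((b * b' * b) * (a'' * (b'' * (a * (b * (b' * a' * b') * b) * a)
      * b'') * a'') * (b * b' * b)) * b'' = g * a' * g⁻¹ :=
    ⟨b'' * (b * b' * b) * a'' * b'' * a * b * b',
      P.mul_mem (P.mul_mem (P.mul_mem (P.mul_mem (P.mul_mem (P.mul_mem n''.bP
        (P.mul_mem (P.mul_mem n.bP n'.bP) n.bP)) (n''.aP c)) n''.bP) (n.aP c)) n.bP) n'.bP,
      by simp only [mul_inv_rev, ib, ib', ib'', ia, ia'', mul_assoc]⟩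
  set x := b'' * ((b * b' * b) * (a'' * (b'' * (a * (b * (b' * a' * b') * b) * a) * b'') * a'') *
    (b * b' * b)) * b'' with hxdef
  set d := e'' * (e * e' * (l'' * (e'' * (l * (e * (e' * l')))))) with hddef
  set ψ : H → ZMod 2 := fun v => tvF a v + tvF a' v + tvF a'' v with hψ
  have hX : Tf V P x d ψ := ⟨X7.tv, X7.inP, fun v hv0 => by
    rw [X7.val v hv0, hψ]
    simp only
    have h2 : ∀ z : ZMod 2, z + z = 0 := CharTwo.add_self_eq_zero
    linear_combination h2 (tvF b v) + h2 (tvF b' v) + h2 (tvF b'' v)⟩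
  have hdV : d ∈ V := X7.tv.mem
  have hexp : ∀ (τ : H) (m : H), Tv V τ m → tvF τ d = tvF τ e'' + (tvF τ e + tvF τ e' + (tvF τ l'' +
      (tvF τ e'' + (tvF τ l + (tvF τ e + (tvF τ e' + tvF τ l')))))) := fun τ m hτ => by
    rw [hddef, hτ.tvF_mul vc.eV (vals X6), hτ.tvF_mul (vals R) hE, hτ.tvF_mul va.eV vb.eV,
      hτ.tvF_mul vc.lV hD, hτ.tvF_mul vc.eV hC, hτ.tvF_mul va.lV hB, hτ.tvF_mul va.eV hA,
      hτ.tvF_mul vb.eV vb.lV]
  have hmem : zpowers x ∈ Sg := by
    refine n'.sat_conj c hg hx fun B hB y hy => ?_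
    by_cases z1 : B = zpowers a
    · subst z1
      exact comm_zpowers (c.tf_comm_two (n.tfa c) hX
        (by rw [hexp a l n.tva]; simp [va.φe, va.φl, p1, p2, s1, s2]; try decide)
        (by simp [hψ, va.φl, q1, t1])) hy
    by_cases z2 : B = zpowers a'
    · subst z2
      exact comm_zpowers (c.tf_comm_two (n'.tfa c) hX
        (by rw [hexp a' l' n'.tva]; simp [vb.φe, vb.φl, q1, q2, u1, u2]; try decide)
        (by simp [hψ, p1, vb.φl, w1])) hy
    by_cases z3 : B = zpowers a''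
    · subst z3
      exact comm_zpowers (c.tf_comm_two (n''.tfa c) hX
        (by rw [hexp a'' l'' n''.tva]; simp [vc.φe, vc.φl, t1, t2, w1, w2]; try decide)
        (by simp [hψ, s1, u1, vc.φl])) hy
    obtain ⟨c1, c2, c3, c4⟩ := n.others n' hB z1 z2 hy
    obtain ⟨-, -, c5, c6⟩ := n.others n'' hB z1 z3 hy
    have cr : Commute y (b * b' * b) := (c2.mul_right c4).mul_right c2
    exact ((c6.mul_right ((cr.mul_right ((c5.mul_right ((c6.mul_right ((c1.mul_right
      ((c2.mul_right ((c4.mul_right c3).mul_right c4)).mul_right c2)).mul_right c1)).mul_right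
      c6)).mul_right c5)).mul_right cr)).mul_right c6)
  have hψe : ψ e = 1 := by simp [hψ, va.φe, q2, t2]
  have hψe' : ψ e' = 1 := by simp [hψ, vb.φe, p2, w2]
  by_cases he : zpowers x = zpowers a
  · have := n'.not_moved c hX hmem (by rw [he]; exact h1) vb.eV hψe'
    rw [hexp b' e' n'.tvb] at this
    simp [vb.βe, vb.βl, r1', r2, q3, u3] at this
    try exact absurd this (by decide)
  · have := n.not_moved c hX hmem he va.eV hψe
    rw [hexp b e n.tvb] at this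
    simp [va.βe, va.βl, r1, r3, p3, s3] at this
    try exact absurd this (by decide)

end Node

end CfsgLib.CGT
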